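import Groth.Prelude.Def_Dix
import Groth.Agent.EtpbcA.CharP
import Groth.Agent.Etcore.Torsion
import Groth.Agent.Sga5.SepToAlg
import Groth.Agent.S0642
import Groth.Agent.S0101

/-!
# `cd_p(X) ≤ dim X` over a separably closed field of characteristic `p`

* `isPrimaryTorsion_pull`: inverse images of `ℓ`-primary torsion sheaves are `ℓ`-primary torsion;
* `cohDimLEAt_of_universalHomeomorph`: `cd_ℓ(X) ≤ d` from a universal homeomorphism `X' ⟶ X` with
  `cd_ℓ(X') ≤ d`;
* `cohDimLEAt_dim`: for `X` separated of finite type and of dimension `≤ n` over a separably closed field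
  of characteristic `p`, `cd_p(X) ≤ n`.
-/

set_option autoImplicit false
universe u
open CategoryTheory CategoryTheory.Limits AlgebraicGeometry Opposite

namespace Groth.Agent.Etbc.H213.CdpSep

variable {X Y : Scheme.{u}}

/-- Stalkwise form of `Dix.IsPrimaryTorsion`. -/
theorem isPrimaryTorsion_iff_stalk (ℓ : ℕ) (F : EtCoh.Ab X) :
    Dix.IsPrimaryTorsion ℓ F ↔
      ∀ (Ω : Type u) [Field Ω] [IsSepClosed Ω] (ξ : Spec (CommRingCat.of Ω) ⟶ X)
      (t : (EtCoh.stalk ξ).obj F), ∃ n : ℕ, (∃ k : ℕ, n = ℓ ^ k) ∧ n • t = 0 := by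
  rw [← Etcore.Torsion.local_iff_stalk (fun n => ∃ k : ℕ, n = ℓ ^ k)]
  constructor
  · intro h U s x
    obtain ⟨V, g, hv, k, hk⟩ := h U s x
    exact ⟨V, g, _, hv, ⟨k, rfl⟩, hk⟩
  · intro h U s x
    obtain ⟨V, g, _, hv, ⟨k, rfl⟩, hk⟩ := h U s x
    exact ⟨V, g, hv, k, hk⟩

/-- The inverse image of an `ℓ`-primary torsion sheaf is `ℓ`-primary torsion. -/
theorem isPrimaryTorsion_pull (f : X ⟶ Y) (ℓ : ℕ) (F : EtCoh.Ab Y) (hF : Dix.IsPrimaryTorsion ℓ F) :
    Dix.IsPrimaryTorsion ℓ ((EtCoh.pull f).obj F) := by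
  rw [isPrimaryTorsion_iff_stalk] at hF ⊢
  exact Etcore.Torsion.stalk_prop_pull _ f F hF

/-- `cd_ℓ` descends along universal homeomorphisms. -/
theorem cohDimLEAt_of_universalHomeomorph (a : X ⟶ Y) [IsIntegralHom a] [UniversallyInjective a]
    [Surjective a] (ℓ d : ℕ) (h : Dix.CohDimLEAt X ℓ d) : Dix.CohDimLEAt Y ℓ d := by
  intro F hF q hq
  have := Groth.Agent.S0101.result a
  have h1 := h _ (isPrimaryTorsion_pull a ℓ F hF) q hq
  exact (Groth.Agent.S0642.result a F q).1.subsingleton

/-- The dimension does not change along a universal homeomorphism. -/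
theorem dim_le_of_universalHomeomorph (a : X ⟶ Y) [IsIntegralHom a] [UniversallyInjective a] :
    topologicalKrullDim X ≤ topologicalKrullDim Y :=
  (Topology.IsClosedEmbedding.of_continuous_injective_isClosedMap a.continuous a.injective
      a.isClosedMap).isInducing.topologicalKrullDim_le

/-- A separated scheme of finite type and dimension `≤ n` over a separably closed field of characteristic
`p` has `p`-cohomological dimension `≤ n`. -/
theorem cohDimLEAt_dim (k : Type u) [Field k] [IsSepClosed k] (p : ℕ) [Fact p.Prime] [CharP k p]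
    (X : Scheme.{u}) (f : X ⟶ Spec (CommRingCat.of k)) [IsSeparated f] [LocallyOfFiniteType f]
    [QuasiCompact f] (n : ℕ) (hn : topologicalKrullDim X ≤ n) : Dix.CohDimLEAt X p n := by
  have i1 := Sga5.SepToAlg.integral_sp k
  have i2 := Sga5.SepToAlg.universallyInjective_sp k
  have i3 := Sga5.SepToAlg.surjective_sp k
  have hsq : IsPullback (pullback.fst f (Sga5.SepToAlg.sp k)) (pullback.snd f (Sga5.SepToAlg.sp k)) f
    (Sga5.SepToAlg.sp k) := IsPullback.of_hasPullback _ _
  have j1 : IsIntegralHom (pullback.fst f (Sga5.SepToAlg.sp k)) := MorphismProperty.of_isPullback hsq.flip i1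
  have j2 : UniversallyInjective (pullback.fst f (Sga5.SepToAlg.sp k)) :=
    MorphismProperty.of_isPullback hsq.flip i2
  have j3 : Surjective (pullback.fst f (Sga5.SepToAlg.sp k)) := MorphismProperty.of_isPullback hsq.flip i3
  have hp : CharP (AlgebraicClosure k) p := charP_of_injective_algebraMap
    (algebraMap k (AlgebraicClosure k)).injective p
  refine cohDimLEAt_of_universalHomeomorph (pullback.fst f (Sga5.SepToAlg.sp k)) p n ?_
  intro F hF q hq
  exact EtpbcA.CharP.H_subsingleton (AlgebraicClosure k) p _ (pullback.snd f (Sga5.SepToAlg.sp k)) n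
    ((dim_le_of_universalHomeomorph (pullback.fst f (Sga5.SepToAlg.sp k))).trans hn) F hF q hq

end Groth.Agent.Etbc.H213.CdpSep
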